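import Mathlib.RingTheory.RootsOfUnity.Complex
import Mathlib.Analysis.Complex.Basic
import Mathlib.Tactic

/-!
The identity `∑_{0<i<N} ζ^(ij) / (2 - ζ^i - ζ^(-i)) = j(j-N)/2 + (N²-1)/12`.
-/

namespace Groth.Agent.OrbRR.Circulant

open Finset

variable {K : Type*} [Field K]

/-- The quadratic `j(j-N)/2 + (N²-1)/12`. -/
def f (N : ℕ) (j : K) : K := j * (j - (N : K)) / 2 + ((N : K) ^ 2 - 1) / 12

/-- The spectral sum. -/
def g (N : ℕ) (ζ : K) (j : ℕ) : K := ∑ i ∈ Ioo 0 N, ζ ^ (i * j) / (2 - ζ ^ i - (ζ ^ i)⁻¹)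

theorem range_eq_insert {N : ℕ} (hN : 0 < N) : range N = insert 0 (Ioo 0 N) := by
  ext i; simp only [mem_range, mem_insert, mem_Ioo]; omega

theorem denom_ne_zero {N : ℕ} {ζ : K} (hζ : IsPrimitiveRoot ζ N) {i : ℕ} (hi : i ∈ Ioo 0 N) :
    2 - ζ ^ i - (ζ ^ i)⁻¹ ≠ 0 := by
  obtain ⟨hi0, hiN⟩ := mem_Ioo.mp hi
  have h1 : ζ ^ i ≠ 1 := hζ.pow_ne_one_of_pos_of_lt (by omega) hiN
  have h0 : ζ ^ i ≠ 0 := pow_ne_zero _ (hζ.ne_zero (by omega))
  intro h
  apply h1
  field_simp at h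
  have : (ζ ^ i - 1) ^ 2 = 0 := by linear_combination -h
  exact sub_eq_zero.mp (eq_zero_of_pow_eq_zero this)

theorem power_sum_Ioo {N : ℕ} (hN : 0 < N) {x : K} (hx : x ^ N = 1) (h1 : x ≠ 1) :
    ∑ i ∈ Ioo 0 N, x ^ i = -1 := by
  have h : (x - 1) * ∑ i ∈ range N, x ^ i = 0 := by rw [mul_geom_sum, hx, sub_self]
  have h' := (mul_eq_zero.mp h).resolve_left (sub_ne_zero.mpr h1)
  rw [range_eq_insert hN, sum_insert (by simp), pow_zero] at h'
  linear_combination h'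

theorem pow_N {N : ℕ} {ζ : K} (hζ : IsPrimitiveRoot ζ N) (i : ℕ) : (ζ ^ i) ^ N = 1 := by
  rw [← pow_mul, mul_comm, pow_mul, hζ.pow_eq_one, one_pow]

theorem g_N {N : ℕ} {ζ : K} (hζ : IsPrimitiveRoot ζ N) : g N ζ N = g N ζ 0 :=
  sum_congr rfl fun i _ => by rw [pow_mul, pow_N hζ, mul_zero, pow_zero]

theorem g_diff {N : ℕ} {ζ : K} (hζ : IsPrimitiveRoot ζ N) {j : ℕ} (hj : j + 1 < N) :
    g N ζ (j + 2) + g N ζ j - 2 * g N ζ (j + 1) = 1 := by
  have h1 : ∑ i ∈ Ioo 0 N, (ζ ^ (j + 1)) ^ i = -1 :=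
    power_sum_Ioo (by omega) (pow_N hζ _) (hζ.pow_ne_one_of_pos_of_lt (by omega) hj)
  simp only [g, mul_sum, ← sum_add_distrib, ← sum_sub_distrib]
  rw [← neg_neg (1 : K), ← h1, ← sum_neg_distrib]
  refine sum_congr rfl fun i hi => ?_
  have hd := denom_ne_zero hζ hi
  have h0 : ζ ^ i ≠ 0 := pow_ne_zero _ (hζ.ne_zero (by have := mem_Ioo.mp hi; omega))
  rw [pow_mul ζ i (j + 2), pow_mul ζ i j, pow_mul ζ i (j + 1), ← pow_mul ζ (j + 1) i,
    Nat.mul_comm (j + 1) i, pow_mul ζ i (j + 1)]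
  generalize ζ ^ i = z at hd h0
  generalize hd' : 2 - z - z⁻¹ = d at hd
  have hd'' : d * z = 2 * z - z ^ 2 - 1 := by rw [← hd']; field_simp
  field_simp
  linear_combination (z ^ j) * hd''

theorem sum_f (N : ℕ) (h12 : (12 : K) ≠ 0) (n : ℕ) :
    12 * ∑ j ∈ range n, f N (j : K) =
      (n : K) * ((n : K) - 1) * (2 * (n : K) - 1) - 3 * (N : K) * (n : K) * ((n : K) - 1) +
        (n : K) * ((N : K) ^ 2 - 1) := by
  have h2 : (2 : K) ≠ 0 := fun h => h12 (by linear_combination 6 * h)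
  induction n with
  | zero => simp
  | succ n ih =>
    rw [sum_range_succ, mul_add, ih, Nat.cast_succ, f]
    field_simp
    ring

theorem g_eq_f (h6 : (6 : K) ≠ 0) {N : ℕ} {ζ : K} (hζ : IsPrimitiveRoot ζ N) {j : ℕ} (hj : j < N) :
    g N ζ j = f N (j : K) := by
  have : NeZero N := ⟨by omega⟩
  have hN : (N : K) ≠ 0 := hζ.neZero'.out
  have h2 : (2 : K) ≠ 0 := fun h => h6 (by linear_combination 3 * h)
  have h12 : (12 : K) ≠ 0 := fun h => mul_ne_zero h2 h6 (by linear_combination h)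
  set h : ℕ → K := fun j => g N ζ j - f N (j : K) with hh
  have hlin : ∀ j, (j ≤ N → h j = h 0 + (j : K) * (h 1 - h 0)) := by
    intro j
    induction j using Nat.twoStepInduction with
    | zero => intro _; simp
    | one => intro _; simp
    | more j ih₁ ih₂ =>
      intro hj'
      have e := g_diff hζ (j := j) (by omega)
      have e₁ := ih₁ (by omega)
      have e₂ := ih₂ (by omega)
      have ef : f N ((j : K) + 2) + f N (j : K) - 2 * f N ((j : K) + 1) = 1 := by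
        simp only [f]
        field_simp
        ring
      simp only [hh, Nat.cast_add, Nat.cast_ofNat, Nat.cast_one] at e₁ e₂ ⊢
      linear_combination e - ef + 2 * e₂ - e₁
  have hNN := hlin N le_rfl
  have hper : h N = h 0 := by
    simp only [hh, g_N hζ, f, Nat.cast_zero]
    ring
  have hslope : h 1 - h 0 = 0 := by
    have : (N : K) * (h 1 - h 0) = 0 := by linear_combination hper - hNN
    exact (mul_eq_zero.mp this).resolve_left hN
  have hconst : ∀ j ≤ N, h j = h 0 := fun j hj => by rw [hlin j hj, hslope, mul_zero, add_zero]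
  have hsumg : ∑ j ∈ range N, g N ζ j = 0 := by
    simp only [g]
    rw [sum_comm]
    refine sum_eq_zero fun i hi => ?_
    rw [← sum_div]
    have hi' := mem_Ioo.mp hi
    simp only [pow_mul]
    rw [show ∑ x ∈ range N, (ζ ^ i) ^ x = 0 from ?_, zero_div]
    have h : (ζ ^ i - 1) * ∑ x ∈ range N, (ζ ^ i) ^ x = 0 := by rw [mul_geom_sum, pow_N hζ, sub_self]
    exact (mul_eq_zero.mp h).resolve_left
      (sub_ne_zero.mpr (hζ.pow_ne_one_of_pos_of_lt (by omega) hi'.2))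
  have hsumf : ∑ j ∈ range N, f N (j : K) = 0 := by
    have := sum_f N h12 N
    have h' : (12 : K) * ∑ j ∈ range N, f N (j : K) = 0 := by rw [this]; ring
    exact (mul_eq_zero.mp h').resolve_left h12
  have hsum : ∑ j ∈ range N, h j = (N : K) * h 0 := by
    rw [sum_congr rfl fun j hj => hconst j (mem_range.mp hj).le, sum_const, card_range, nsmul_eq_mul]
  have hz : h 0 = 0 := by
    have e : ∑ j ∈ range N, h j = 0 := by simp only [hh, sum_sub_distrib, hsumg, hsumf, sub_self]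
    rw [hsum] at e
    exact (mul_eq_zero.mp e).resolve_left hN
  exact sub_eq_zero.mp ((hconst j hj.le).trans hz)

/-- The denominators are nonnegative reals over `ℂ`. -/
theorem denom_eq_ofReal {N : ℕ} {ζ : ℂ} (hζ : IsPrimitiveRoot ζ N) {i : ℕ} (hi : i ∈ Ioo 0 N) :
    ∃ d : ℝ, 0 ≤ d ∧ 2 - ζ ^ i - (ζ ^ i)⁻¹ = (d : ℂ) := by
  have hi' := mem_Ioo.mp hi
  have hn : ‖ζ ^ i‖ = 1 := Complex.norm_eq_one_of_pow_eq_one (pow_N hζ i) (by omega)
  have hre : (ζ ^ i).re ≤ 1 := by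
    have := Complex.re_le_norm (ζ ^ i)
    linarith
  refine ⟨2 - 2 * (ζ ^ i).re, by linarith, ?_⟩
  have hinv : (ζ ^ i)⁻¹ = (starRingEnd ℂ) (ζ ^ i) := by
    rw [Complex.inv_def, Complex.normSq_eq_norm_sq, hn]
    simp
  rw [hinv]
  generalize ζ ^ i = z
  apply Complex.ext <;> simp <;> ring

end Groth.Agent.OrbRR.Circulant
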